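import Groth.Agent.LCIDef67.Local
import Groth.Agent.ArtFunLib.FlatSeq
import Groth.Agent.KReg44.Ideal
import Groth.Prelude.Def_LCI2

/-!
# Lifting flat algebras with locally complete intersection special fibre along small extensions
-/

set_option autoImplicit false
universe u

open IsLocalRing

namespace Groth.Agent.LCIDef67

section

variable {C' C P' B A₀ P0 : Type u} [CommRing C'] [IsLocalRing C'] [IsArtinianRing C'] [CommRing C]
  [IsLocalRing C] [IsArtinianRing C] [CommRing P'] [CommRing B] [CommRing A₀] [CommRing P0]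
  [Algebra C' P'] [Module.Flat C' P'] [Algebra P' A₀]
  (q : P' →+* P0) (hq : Function.Surjective q)
  (hqker : RingHom.ker q = (maximalIdeal C').map (algebraMap C' P'))
  (f : P0 →+* A₀) (hf : Function.Surjective f) (hfq : f.comp q = algebraMap P' A₀)
  (I : Ideal P') (hIJ : I.map q = RingHom.ker f)
  (t : C') (ht : algebraMap C' P' t ∈ I)
  (hI : I ⊓ (maximalIdeal C').map (algebraMap C' P') ≤
    (maximalIdeal C').map (algebraMap C' P') * I ⊔ Ideal.span {algebraMap C' P' t})
  (ht0 : t ≠ 0)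

include hq hqker hf hfq hIJ ht hI ht0 in
/-- near a prime there is a functional on `I` not vanishing at the socle element -/
theorem exists_functional [Module.FinitePresentation P' I] (hJ : LCI.IsKoszulRegularIdeal (RingHom.ker f))
    (Q : Ideal A₀) [Q.IsPrime] :
    ∃ r : I →ₗ[P'] A₀, r ⟨algebraMap C' P' t, ht⟩ ∉ Q := by
  classical
  obtain ⟨g, hg, l, hl, hlJ⟩ := hJ ⟨Q.comap f, inferInstance⟩ (fun x hx => by
    change f x ∈ Q
    rw [RingHom.mem_ker.1 hx]; exact zero_mem _)
  obtain ⟨G, hG⟩ := hq g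
  let M : Submonoid P' := Submonoid.powers G
  let M0 : Submonoid P0 := Submonoid.powers g
  let T : Submonoid A₀ := Algebra.algebraMapSubmonoid A₀ M
  let R := Localization M
  let L := Localization.Away g
  let N := Localization T
  have hM : M.map q = M0 := by rw [Submonoid.map_powers, hG]
  have hM0 : M0.map f = T := by
    ext y
    simp only [T, Algebra.algebraMapSubmonoid, ← hM, ← hfq, Submonoid.mem_map, RingHom.coe_comp,
      Function.comp_apply, exists_exists_and_eq_and]
  let qR : R →+* L := IsLocalization.map L q (hM ▸ M.le_comap_map)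
  let σ : L →+* N := IsLocalization.map N f (hM0 ▸ M0.le_comap_map)
  let m : Ideal R := (maximalIdeal C').map (algebraMap C' R)
  have hmR : m = ((maximalIdeal C').map (algebraMap C' P')).map (algebraMap P' R) := by
    rw [Ideal.map_map, ← IsScalarTower.algebraMap_eq]
  have hkerR : RingHom.ker qR = m := by
    rw [hmR, ← hqker]; exact IsLocalization.ker_map (S := R) L q hM
  have hkerσ : RingHom.ker σ = Ideal.span {x | x ∈ l} := by
    rw [← hlJ]; exact IsLocalization.ker_map (S := L) N f hM0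
  have hqR : Function.Surjective qR := fun y => by
    obtain ⟨x, ⟨z, hz⟩, rfl⟩ := IsLocalization.exists_mk'_eq M0 y
    obtain ⟨x, rfl⟩ := hq x
    obtain ⟨z', hz', rfl⟩ : z ∈ M.map q := hM.symm ▸ hz
    exact ⟨IsLocalization.mk' R x ⟨z', hz'⟩, IsLocalization.map_mk' _ x ⟨z', hz'⟩⟩
  have hqRι : qR.comp (algebraMap P' R) = (algebraMap P0 L).comp q := IsLocalization.map_comp _
  have hσι : ∀ z : P', σ (qR (algebraMap P' R z)) = algebraMap P' N z := fun z => by
    rw [show qR (algebraMap P' R z) = algebraMap P0 L (q z) from RingHom.congr_fun hqRι z,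
      IsLocalization.map_eq, IsScalarTower.algebraMap_apply P' A₀ N z, ← hfq]
    rfl
  let Y : Ideal R := I.map (algebraMap P' R)
  have hY : Y.map qR = RingHom.ker σ := by
    rw [hkerσ, ← hlJ, Ideal.map_map, hqRι, ← Ideal.map_map, hIJ]
  choose F hFY hF using fun i : Fin l.length =>
    (Ideal.mem_map_iff_of_surjective qR hqR).1 (show l.get i ∈ Y.map qR by
      rw [hY, hkerσ]; exact Ideal.subset_span (List.get_mem l i))
  have hH1 : CAlgX.IsH1Regular fun i => qR (F i) := by
    refine KReg44.isH1Regular _ ?_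
    rw [show List.ofFn (fun i => qR (F i)) = l by simp only [hF]; exact List.ofFn_get l]
    exact hl
  have hspan : Ideal.span (Set.range fun i => qR (F i)) = RingHom.ker σ := by
    simp only [hF, hkerσ]
    rw [KReg44.span_range_eq_ofList, List.ofFn_get]
  let τ : R := algebraMap C' R t
  have hτ : algebraMap P' R (algebraMap C' P' t) = τ := (IsScalarTower.algebraMap_apply C' P' R t).symm
  let S : Ideal R := Ideal.span (Set.range F) ⊔ Ideal.span {τ}
  have hYS : Y ≤ S := by
    refine le_of_le_sup_mul (N := m) ?_ fun y hy => ?_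
    · obtain ⟨N', hN'⟩ := DefSchLib.isNilpotent_max C'
      exact ⟨N', by rw [← Ideal.map_pow, hN', Ideal.zero_eq_bot, Ideal.map_bot]; rfl⟩
    have h1 : qR y ∈ Ideal.span (Set.range fun i => qR (F i)) := by
      rw [hspan, ← hY]; exact Ideal.mem_map_of_mem _ hy
    obtain ⟨c, hc⟩ := (Submodule.mem_span_range_iff_exists_fun L).1 h1
    choose v hv using fun i => hqR (c i)
    have h2 : y - ∑ i, v i * F i ∈ Y ⊓ m := by
      refine ⟨sub_mem hy (Ideal.sum_mem _ fun i _ => Ideal.mul_mem_left _ _ (hFY i)), ?_⟩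
      rw [← hkerR]
      refine RingHom.mem_ker.2 ?_
      rw [map_sub, sub_eq_zero, map_sum, ← hc]
      exact Finset.sum_congr rfl fun i _ => by rw [map_mul, hv, smul_eq_mul]
    obtain ⟨⟨⟨z, hz⟩, ⟨s, hs⟩⟩, hzs⟩ := (IsLocalization.mem_map_algebraMap_iff M R).1 h2.1
    have h3 : algebraMap P' R z ∈ m := by rw [← hzs]; exact Ideal.mul_mem_right _ _ h2.2
    rw [hmR] at h3
    obtain ⟨⟨⟨z', hz'⟩, ⟨s', hs'⟩⟩, hzs'⟩ := (IsLocalization.mem_map_algebraMap_iff M R).1 h3
    rw [← map_mul] at hzs'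
    obtain ⟨⟨w, hw⟩, hwz⟩ := (IsLocalization.eq_iff_exists M R).1 hzs'
    have h4 : w * (z * s') ∈ I ⊓ (maximalIdeal C').map (algebraMap C' P') :=
      ⟨Ideal.mul_mem_left _ _ (Ideal.mul_mem_right _ _ hz), by
        rw [hwz]; exact Ideal.mul_mem_left _ _ hz'⟩
    have h5 : algebraMap P' R (w * (z * s')) ∈ m * Y ⊔ Ideal.span {τ} := by
      have := Ideal.mem_map_of_mem (algebraMap P' R) (hI h4)
      rw [Ideal.map_sup, Ideal.map_mul, ← hmR, Ideal.map_span, Set.image_singleton, hτ] at this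
      exact this
    have hu : IsUnit (algebraMap P' R s * algebraMap P' R w * algebraMap P' R s') :=
      ((IsLocalization.map_units R (⟨s, hs⟩ : M)).mul (IsLocalization.map_units R (⟨w, hw⟩ : M))).mul
        (IsLocalization.map_units R (⟨s', hs'⟩ : M))
    have h6 : y - ∑ i, v i * F i ∈ m * Y ⊔ Ideal.span {τ} := by
      refine (Ideal.unit_mul_mem_iff_mem _ hu).1 ?_
      rw [show algebraMap P' R s * algebraMap P' R w * algebraMap P' R s' * (y - ∑ i, v i * F i) =
        algebraMap P' R w * (((y - ∑ i, v i * F i) * algebraMap P' R s) * algebraMap P' R s') by ring]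
      rw [hzs, ← map_mul, ← map_mul]
      exact h5
    obtain ⟨a, ha, b, hb, hab⟩ := Submodule.mem_sup.1 h6
    rw [show y = (∑ i, v i * F i + b) + a by rw [add_assoc, add_comm b a, hab]; ring]
    exact Submodule.add_mem_sup (Submodule.add_mem_sup (Ideal.sum_mem _ fun i _ =>
      Ideal.mul_mem_left _ _ (Ideal.subset_span ⟨i, rfl⟩)) hb) ha
  have hdec : ∀ z : I, ∃ a : R, algebraMap P' R z - τ * a ∈ Ideal.span (Set.range F) := fun z => by
    obtain ⟨x, hx, y, hy, hxy⟩ := Submodule.mem_sup.1 (hYS (Ideal.mem_map_of_mem (algebraMap P' R) z.2))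
    obtain ⟨a, rfl⟩ := Ideal.mem_span_singleton'.1 hy
    exact ⟨a, by rw [← hxy, mul_comm τ, add_sub_cancel_right]; exact hx⟩
  choose A hA using hdec
  have huniq : ∀ (z : P') (a b : R), algebraMap P' R z - τ * a ∈ Ideal.span (Set.range F) →
      algebraMap P' R z - τ * b ∈ Ideal.span (Set.range F) → σ (qR a) = σ (qR b) := fun z a b ha hb => by
    obtain ⟨v, hv⟩ := (Submodule.mem_span_range_iff_exists_fun R).1 (sub_mem ha hb)
    have h := mem_span_of_relation (algebraMap C' R) (RingHom.flat_algebraMap_iff.2 inferInstance) qR hqR hkerR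
      F hH1 ht0 (a := a - b) (v := v) (by
        simp only [smul_eq_mul] at hv
        rw [hv]; ring)
    rw [hspan, RingHom.mem_ker, map_sub, map_sub, sub_eq_zero] at h
    exact h
  let r₀ : I →ₗ[P'] N :=
    { toFun := fun z => σ (qR (A z))
      map_add' := fun x y => by
        rw [← map_add, ← map_add]
        refine huniq (x + y : I) _ _ (hA _) ?_
        rw [Submodule.coe_add, map_add, mul_add, add_sub_add_comm]
        exact add_mem (hA x) (hA y)
      map_smul' := fun c x => by
        rw [RingHom.id_apply, Algebra.smul_def, ← hσι c, ← map_mul, ← map_mul]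
        refine huniq (c • x : I) _ _ (hA _) ?_
        rw [Submodule.coe_smul, smul_eq_mul, map_mul, mul_left_comm, ← mul_sub]
        exact Ideal.mul_mem_left _ _ (hA x) }
  have hr₀ : r₀ ⟨algebraMap C' P' t, ht⟩ = 1 := by
    refine (huniq _ _ 1 (hA _) ?_).trans (by rw [map_one, map_one])
    rw [hτ, mul_one, sub_self]; exact zero_mem _
  haveI : IsLocalizedModule M (IsScalarTower.toAlgHom P' A₀ N).toLinearMap :=
    isLocalizedModule_iff_isLocalization.2 inferInstance
  obtain ⟨h, ⟨s, hs⟩, hh⟩ := Module.FinitePresentation.exists_lift_of_isLocalizedModule M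
    (IsScalarTower.toAlgHom P' A₀ N).toLinearMap r₀
  refine ⟨h, fun hQ => ?_⟩
  have h1 := LinearMap.congr_fun hh ⟨algebraMap C' P' t, ht⟩
  rw [LinearMap.comp_apply, LinearMap.smul_apply, hr₀, Submonoid.smul_def, Algebra.smul_def, mul_one,
    IsScalarTower.algebraMap_apply P' A₀ N s] at h1
  obtain ⟨⟨d, hd⟩, hds⟩ := (IsLocalization.eq_iff_exists T N).1 h1
  have hQT : ∀ x ∈ T, x ∉ Q := fun x hx => by
    rw [← hM0] at hx
    obtain ⟨_, ⟨i, rfl⟩, rfl⟩ := hx
    exact fun hxQ => hg (Ideal.IsPrime.mem_of_pow_mem (I := Q.comap f) inferInstance i hxQ)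
  refine hQT (d * algebraMap P' A₀ s) (T.mul_mem hd (Algebra.mem_algebraMapSubmonoid_of_mem ⟨s, hs⟩)) ?_
  rw [← hds]
  exact Ideal.mul_mem_left _ _ hQ

include hq hqker hf hfq hIJ ht hI ht0 in
/-- a functional on `I` with value one at the socle element -/
theorem exists_retraction [Module.FinitePresentation P' I] (hJ : LCI.IsKoszulRegularIdeal (RingHom.ker f)) :
    ∃ r : I →ₗ[P'] A₀, r ⟨algebraMap C' P' t, ht⟩ = 1 := by
  have hsurj : Function.Surjective (algebraMap P' A₀) := by rw [← hfq]; exact hf.comp hq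
  let E : Ideal A₀ :=
    { carrier := {a | ∃ r : I →ₗ[P'] A₀, r ⟨algebraMap C' P' t, ht⟩ = a}
      zero_mem' := ⟨0, rfl⟩
      add_mem' := by rintro _ _ ⟨r, rfl⟩ ⟨r', rfl⟩; exact ⟨r + r', rfl⟩
      smul_mem' := by
        rintro c _ ⟨r, rfl⟩
        obtain ⟨c, rfl⟩ := hsurj c
        exact ⟨c • r, by rw [LinearMap.smul_apply, smul_eq_mul, Algebra.smul_def]⟩ }
  by_cases hE : E = ⊤
  · exact (show (1 : A₀) ∈ E by rw [hE]; trivial)
  obtain ⟨Q, hQ, hEQ⟩ := Ideal.exists_le_maximal E hE
  obtain ⟨r, hr⟩ := exists_functional q hq hqker f hf hfq I hIJ t ht hI ht0 hJ Q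
  exact absurd (hEQ ⟨r, rfl⟩) hr

end

/-- an ideal complementary to an element split off by a functional -/
theorem exists_complement {P A : Type u} [CommRing P] [CommRing A] [Algebra P A]
    (hA : Function.Surjective (algebraMap P A)) (I : Ideal P) (x : P) (hx : x ∈ I) (r : I →ₗ[P] A)
    (hr : r ⟨x, hx⟩ = 1) :
    ∃ K : Ideal P, I = K ⊔ Ideal.span {x} ∧ ∀ a, a * x ∈ K → algebraMap P A a = 0 := by
  have hrx : ∀ a : P, r (a • ⟨x, hx⟩) = algebraMap P A a := fun a => by
    rw [map_smul, hr, Algebra.smul_def, mul_one]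
  refine ⟨(LinearMap.ker r).map I.subtype, le_antisymm (fun z hz => ?_)
    (sup_le (Submodule.map_subtype_le _ _) ((Ideal.span_singleton_le_iff_mem _).2 hx)), fun a ha => ?_⟩
  · obtain ⟨a, ha⟩ := hA (r ⟨z, hz⟩)
    rw [show z = (z - a * x) + a * x by ring]
    refine Submodule.add_mem_sup ⟨⟨z, hz⟩ - a • ⟨x, hx⟩, ?_, rfl⟩ (Ideal.mem_span_singleton'.2 ⟨a, rfl⟩)
    exact LinearMap.mem_ker.2 (by rw [map_sub, hrx, ha, sub_self])
  · obtain ⟨z, hz, hzx⟩ := ha
    rw [← hrx, show a • (⟨x, hx⟩ : I) = z from Subtype.ext hzx.symm]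
    exact LinearMap.mem_ker.1 hz

/-- A flat algebra with locally complete intersection special fibre lifts along a small extension. -/
theorem exists_lift {C' C B A₀ P0 : Type u} [CommRing C'] [IsLocalRing C'] [IsArtinianRing C'] [CommRing C]
    [IsLocalRing C] [IsArtinianRing C] [CommRing B] [CommRing A₀] [CommRing P0]
    (p : C' →+* C) (hp : Function.Surjective p) {t : C'} (hpt : RingHom.ker p = Ideal.span {t})
    (ht0 : t ≠ 0) (htm : ∀ a ∈ maximalIdeal C', a * t = 0)
    (φ : C →+* B) (hφ : φ.Flat) (π : B →+* A₀) (hπker : RingHom.ker π = (maximalIdeal C).map φ)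
    {n : ℕ} (Φ : MvPolynomial (Fin n) C' →+* B) (hΦ : Function.Surjective Φ)
    (hΦC : Φ.comp (algebraMap C' (MvPolynomial (Fin n) C')) = φ.comp p)
    (q : MvPolynomial (Fin n) C' →+* P0) (hq : Function.Surjective q)
    (hqker : RingHom.ker q = (maximalIdeal C').map (algebraMap C' (MvPolynomial (Fin n) C')))
    (f : P0 →+* A₀) (hf : Function.Surjective f) (hfq : f.comp q = π.comp Φ)
    (hJ : LCI.IsKoszulRegularIdeal (RingHom.ker f)) :
    ∃ (B' : Type u) (_ : CommRing B') (φ' : C' →+* B') (Φ' : B' →+* B), φ'.Flat ∧ Function.Surjective Φ' ∧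
      Φ'.comp φ' = φ.comp p ∧ RingHom.ker Φ' = (RingHom.ker p).map φ' ∧
      RingHom.ker (π.comp Φ') = (maximalIdeal C').map φ' := by
  classical
  letI : Algebra (MvPolynomial (Fin n) C') A₀ := (f.comp q).toAlgebra
  let ι := algebraMap C' (MvPolynomial (Fin n) C')
  let I := RingHom.ker Φ
  let mP := (maximalIdeal C').map ι
  let x := ι t
  have htker : t ∈ RingHom.ker p := hpt ▸ Ideal.mem_span_singleton_self t
  have htmax : t ∈ maximalIdeal C' := (mem_maximalIdeal t).2 fun hu => by
    have := hu.map p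
    rw [RingHom.mem_ker.1 htker] at this
    exact not_isUnit_zero this
  have hmax : (maximalIdeal C').map p = maximalIdeal C := by
    haveI := Ideal.IsMaximal.map_of_surjective_of_ker_le hp (m := maximalIdeal C')
      (hpt ▸ (Ideal.span_singleton_le_iff_mem _).2 htmax)
    exact eq_maximalIdeal this
  have hx : x ∈ I := RingHom.mem_ker.2 ((RingHom.congr_fun hΦC t).trans (by
    rw [RingHom.comp_apply, RingHom.mem_ker.1 htker, map_zero]))
  have hker₀ : RingHom.ker (f.comp q) = mP ⊔ I := by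
    rw [hfq, ← RingHom.comap_ker, hπker, ← hmax, Ideal.map_map, ← hΦC, ← Ideal.map_map,
      Ideal.comap_map_of_surjective Φ hΦ, ← RingHom.ker_eq_comap_bot]
  have hIJ : I.map q = RingHom.ker f := by
    rw [← Ideal.map_comap_of_surjective q hq (RingHom.ker f), RingHom.comap_ker, hker₀, Ideal.map_sup,
      show mP.map q = ⊥ from (Ideal.map_eq_bot_iff_le_ker q).2 hqker.ge, bot_sup_eq]
  have hI : I ⊓ mP ≤ mP * I ⊔ Ideal.span {x} := by
    let μ : MvPolynomial (Fin n) C' →+* MvPolynomial (Fin n) C := MvPolynomial.map p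
    have hμ : Function.Surjective μ := MvPolynomial.map_surjective p hp
    have hμι : μ.comp ι = (algebraMap C (MvPolynomial (Fin n) C)).comp p :=
      RingHom.ext fun a => MvPolynomial.map_C p a
    let Ψ : MvPolynomial (Fin n) C →+* B := MvPolynomial.eval₂Hom φ fun i => Φ (MvPolynomial.X i)
    have hΨ : Ψ.comp μ = Φ := MvPolynomial.ringHom_ext (fun a => by
        rw [RingHom.comp_apply, MvPolynomial.map_C, MvPolynomial.eval₂Hom_C]
        exact (RingHom.congr_fun hΦC a).symm)
      fun i => by rw [RingHom.comp_apply, MvPolynomial.map_X, MvPolynomial.eval₂Hom_X']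
    letI : Algebra C B := φ.toAlgebra
    haveI : Module.Flat C B := hφ
    let Ψa : MvPolynomial (Fin n) C →ₐ[C] B :=
      { Ψ with commutes' := fun a => MvPolynomial.eval₂Hom_C φ _ a }
    have hΨs : Function.Surjective Ψa := fun b => by
      obtain ⟨y, rfl⟩ := hΦ b
      exact ⟨μ y, RingHom.congr_fun hΨ y⟩
    haveI : Module.Flat C (MvPolynomial (Fin n) C ⧸ RingHom.ker Ψa) :=
      Module.Flat.of_linearEquiv (Ideal.quotientKerAlgEquivOfSurjective hΨs).toLinearEquiv
    have hflat := (ArtFunLib.FlatSeq.flat_quotient_iff (C := C) (RingHom.ker Ψa)).1 inferInstance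
    rintro y ⟨hyI, hym⟩
    have hm : (maximalIdeal C).map (algebraMap C (MvPolynomial (Fin n) C)) = mP.map μ := by
      rw [Ideal.map_map, hμι, ← Ideal.map_map, hmax]
    have hK : RingHom.ker Ψa = I.map μ := by
      show RingHom.ker Ψ = (RingHom.ker Φ).map μ
      rw [← hΨ, ← RingHom.comap_ker, Ideal.map_comap_of_surjective μ hμ]
    have h1 := hflat (x := μ y) ⟨by rw [hK]; exact Ideal.mem_map_of_mem μ hyI,
      by rw [hm]; exact Ideal.mem_map_of_mem μ hym⟩
    rw [hm, hK, ← Ideal.map_mul, Ideal.mem_map_iff_of_surjective μ hμ] at h1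
    obtain ⟨z, hz, hzy⟩ := h1
    rw [show y = z + (y - z) by ring]
    refine Submodule.add_mem_sup hz ?_
    have h2 : y - z ∈ RingHom.ker μ := by rw [RingHom.mem_ker, map_sub, hzy, sub_self]
    rw [MvPolynomial.ker_map, hpt, Ideal.map_span, Set.image_singleton] at h2
    exact h2
  haveI : Module.FinitePresentation (MvPolynomial (Fin n) C') I :=
    Module.finitePresentation_of_finite _ _
  obtain ⟨r, hr⟩ := exists_retraction q hq hqker f hf rfl I hIJ t hx hI ht0 hJ
  obtain ⟨K, hIK, hxK⟩ := exists_complement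
    (show Function.Surjective (algebraMap (MvPolynomial (Fin n) C') A₀) from hf.comp hq) I x hx r hr
  have hKI : K ≤ I := hIK.ge.trans' le_sup_left
  have hxm : mP * Ideal.span {x} = ⊥ := by
    rw [← Set.image_singleton (f := ι), ← Ideal.map_span, ← Ideal.map_mul, Ideal.map_eq_bot_iff_le_ker]
    refine Ideal.mul_le.2 fun a ha b hb => ?_
    obtain ⟨c, rfl⟩ := Ideal.mem_span_singleton'.1 hb
    rw [RingHom.mem_ker, mul_left_comm, htm a ha, mul_zero, map_zero]
  have hmI : mP * I = mP * K := by rw [hIK, Ideal.mul_sup, hxm, sup_bot_eq]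
  have hxmem : x ∈ mP := Ideal.mem_map_of_mem ι htmax
  have hflat : K ⊓ mP ≤ mP * K := by
    rintro y ⟨hyK, hym⟩
    obtain ⟨z, hz, w, hw, rfl⟩ := Submodule.mem_sup.1 (hI ⟨hKI hyK, hym⟩)
    rw [hmI] at hz
    refine add_mem hz ?_
    obtain ⟨a, rfl⟩ := Ideal.mem_span_singleton'.1 hw
    have ha : a * x ∈ K := (Ideal.add_mem_iff_right _ (Ideal.mul_le_right hz)).1 hyK
    have h2 : a ∈ RingHom.ker (f.comp q) := hxK a ha
    rw [hker₀] at h2
    obtain ⟨b, hb, c, hc, rfl⟩ := Submodule.mem_sup.1 h2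
    rw [add_mul]
    refine add_mem ?_ ?_
    · have : b * x ∈ mP * Ideal.span {x} := Ideal.mul_mem_mul hb (Ideal.mem_span_singleton_self x)
      rw [hxm] at this
      rw [Ideal.mem_bot.1 this]
      exact zero_mem _
    · rw [mul_comm c x, ← hmI]
      exact Ideal.mul_mem_mul hxmem hc
  let mk := Ideal.Quotient.mk K
  refine ⟨_, inferInstance, mk.comp ι, Ideal.Quotient.lift K Φ fun a ha => hKI ha, ?_, ?_, ?_, ?_, ?_⟩
  · show (algebraMap C' (MvPolynomial (Fin n) C' ⧸ K)).Flat
    exact RingHom.flat_algebraMap_iff.2 ((ArtFunLib.FlatSeq.flat_quotient_iff K).2 hflat)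
  · exact Ideal.Quotient.lift_surjective_of_surjective _ _ hΦ
  · exact RingHom.ext fun a => RingHom.congr_fun hΦC a
  · rw [Ideal.ker_quotient_lift, ← Ideal.map_map, hpt, Ideal.map_span ι, Set.image_singleton]
    show I.map mk = _
    rw [hIK, Ideal.map_sup, Ideal.map_quotient_self, bot_sup_eq]
  · have H : K ≤ RingHom.ker (π.comp Φ) := fun a ha => by
      rw [RingHom.mem_ker, RingHom.comp_apply, RingHom.mem_ker.1 (hKI ha), map_zero]
    rw [show π.comp (Ideal.Quotient.lift K Φ fun a ha => hKI ha) = Ideal.Quotient.lift K (π.comp Φ) H from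
        Ideal.Quotient.ringHom_ext (RingHom.ext fun _ => rfl), Ideal.ker_quotient_lift _ H, ← Ideal.map_map, ← hfq,
      hker₀, hIK, Ideal.map_sup, Ideal.map_sup, Ideal.map_quotient_self, bot_sup_eq, sup_eq_left]
    exact Ideal.map_mono ((Ideal.span_singleton_le_iff_mem _).2 hxmem)

end Groth.Agent.LCIDef67
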