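import Groth.Prelude.Def_CAlgX
import Groth.Agent.DefSchLib.Affine
import Groth.Agent.KReg44.Syzygy

/-!
# Relations over an Artinian base along an `H₁`-regular fibre
-/

set_option autoImplicit false
universe u

open IsLocalRing

namespace Groth.Agent.LCIDef67

/-- trivial relations lift along a surjection -/
theorem exists_lift_trivial {R L : Type u} [CommRing R] [CommRing L] (q : R →+* L) (hq : Function.Surjective q)
    {n : ℕ} (F : Fin n → R) (hF : CAlgX.IsH1Regular fun i => q (F i)) {w : Fin n → R}
    (hw : q (∑ i, w i * F i) = 0) :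
    ∃ v : Fin n → R, (∀ i, q (v i) = q (w i)) ∧ ∑ i, v i * F i = 0 := by
  have hrel : ∑ i, q (w i) * q (F i) = 0 := by rw [← hw, map_sum]; simp
  have key : ∀ v ∈ Submodule.span L {v : Fin n → L | ∃ i j : Fin n, v = Pi.single i (q (F j)) - Pi.single j (q (F i))},
      ∃ v' : Fin n → R, (fun i => q (v' i)) = v ∧ ∑ i, v' i * F i = 0 := by
    intro v hv
    induction hv using Submodule.span_induction with
    | mem v hv =>
      obtain ⟨i, j, rfl⟩ := hv
      refine ⟨Pi.single i (F j) - Pi.single j (F i), ?_, ?_⟩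
      · funext k
        simp [Pi.single_apply, apply_ite q]
      · simp [sub_mul, Finset.sum_sub_distrib, Pi.single_apply, ite_mul, mul_comm (F j) (F i)]
    | zero => exact ⟨0, funext fun _ => map_zero q, by simp⟩
    | add v w _ _ hv hw =>
      obtain ⟨v', rfl, hv'⟩ := hv
      obtain ⟨w', rfl, hw'⟩ := hw
      exact ⟨v' + w', funext fun i => map_add q _ _, by simp [add_mul, Finset.sum_add_distrib, hv', hw']⟩
    | smul r v _ hv =>
      obtain ⟨v', rfl, hv'⟩ := hv
      obtain ⟨r', rfl⟩ := hq r
      exact ⟨r' • v', funext fun i => map_mul q _ _, by simp [mul_assoc, ← Finset.mul_sum, hv']⟩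
  obtain ⟨v, hv, hsum⟩ := key _ (hF _ hrel)
  exact ⟨v, fun i => congr_fun hv i, hsum⟩

/-- in a flat algebra, a relation between lifts of an `H₁`-regular sequence and a socle element of the base
has its socle coefficient in the ideal of the sequence -/
theorem mem_span_of_relation {C R L : Type u} [CommRing C] [IsLocalRing C] [IsArtinianRing C] [CommRing R]
    [CommRing L] (φ : C →+* R) (hφ : φ.Flat) (q : R →+* L) (hq : Function.Surjective q)
    (hker : RingHom.ker q = (maximalIdeal C).map φ) {n : ℕ} (F : Fin n → R)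
    (hF : CAlgX.IsH1Regular fun i => q (F i)) {t : C} (ht0 : t ≠ 0) {a : R} {v : Fin n → R}
    (h : φ t * a + ∑ i, v i * F i = 0) :
    q a ∈ Ideal.span (Set.range fun i => q (F i)) := by
  suffices H : ∀ (K : Ideal C) (v : Fin n → R), (∀ i, v i ∈ K.map φ) → t ∈ K →
      φ t * a + ∑ i, v i * F i = 0 → q a ∈ Ideal.span (Set.range fun i => q (F i)) by
    exact H ⊤ v (fun i => by rw [Ideal.map_top]; trivial) trivial h
  intro K
  induction K using (wellFounded_lt (α := Ideal C)).induction with
  | _ K ih =>
    intro v hv htK hrel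
    obtain ⟨K', c, hlt, -, hc, hK, hm⟩ := DefSchLib.exists_step (C := C) (K := K) fun hbot => ht0 (by
      rw [hbot] at htK; exact Ideal.mem_bot.1 htK)
    choose w hw using fun i => DefSchLib.split_mem φ hK (hv i)
    have hsum : φ c * (∑ i, w i * F i) + φ t * a ∈ K'.map φ := by
      rw [show φ c * (∑ i, w i * F i) + φ t * a = -∑ i, (v i - φ c * w i) * F i from ?_]
      · exact neg_mem (Ideal.sum_mem _ fun i _ => Ideal.mul_mem_right _ _ (hw i))
      · rw [Finset.mul_sum, ← Finset.sum_neg_distrib, eq_neg_of_add_eq_zero_left hrel, ← sub_eq_add_neg,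
          ← Finset.sum_sub_distrib]
        exact Finset.sum_congr rfl fun i _ => by ring
    by_cases htK' : t ∈ K'
    · have h1 : φ c * (∑ i, w i * F i) ∈ K'.map φ :=
        (Ideal.add_mem_iff_left _ (Ideal.mul_mem_right a _ (Ideal.mem_map_of_mem φ htK'))).1 hsum
      have h2 : q (∑ i, w i * F i) = 0 := by
        rw [← RingHom.mem_ker, hker]; exact DefSchLib.cancel φ hφ hc h1
      obtain ⟨z, hz, hz0⟩ := exists_lift_trivial q hq F hF h2
      refine ih K' hlt (fun i => v i - φ c * z i) (fun i => ?_) htK' ?_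
      · rw [show v i - φ c * z i = (v i - φ c * w i) + φ c * (w i - z i) by ring]
        refine add_mem (hw i) ?_
        have h3 : w i - z i ∈ (maximalIdeal C).map φ := by
          rw [← hker, RingHom.mem_ker, map_sub, hz i, sub_self]
        have h4 : Ideal.span {φ c} * (maximalIdeal C).map φ ≤ K'.map φ := by
          rw [← Set.image_singleton, ← Ideal.map_span, ← Ideal.map_mul]
          refine Ideal.map_mono (Ideal.mul_le.2 fun x hx y hy => ?_)
          obtain ⟨r, rfl⟩ := Ideal.mem_span_singleton'.1 hx
          rw [mul_comm (r * c) y]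
          exact hm y hy _ (hK ▸ Submodule.mem_sup_right (Ideal.mul_mem_left _ r (Ideal.mem_span_singleton_self c)))
        exact h4 (Ideal.mul_mem_mul (Ideal.mem_span_singleton_self _) h3)
      · simp only [sub_mul, Finset.sum_sub_distrib, mul_assoc, ← Finset.mul_sum, hz0, mul_zero, sub_zero]
        exact hrel
    · rw [hK] at htK
      obtain ⟨k', hk', x, hx, rfl⟩ := Submodule.mem_sup.1 htK
      obtain ⟨r, rfl⟩ := Ideal.mem_span_singleton'.1 hx
      have hr : IsUnit r := by
        by_contra hr
        exact htK' (add_mem hk' (hm r ((mem_maximalIdeal r).2 hr) c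
          (hK ▸ Submodule.mem_sup_right (Ideal.mem_span_singleton_self c))))
      have h1 : φ c * (∑ i, w i * F i + φ r * a) ∈ K'.map φ := by
        rw [show φ c * (∑ i, w i * F i + φ r * a) =
          (φ c * (∑ i, w i * F i) + φ (k' + r * c) * a) - φ k' * a by rw [map_add, map_mul]; ring]
        exact sub_mem hsum (Ideal.mul_mem_right _ _ (Ideal.mem_map_of_mem φ hk'))
      have h2 : q (∑ i, w i * F i) + q (φ r) * q a = 0 := by
        rw [← map_mul, ← map_add, ← RingHom.mem_ker, hker]; exact DefSchLib.cancel φ hφ hc h1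
      refine (Ideal.unit_mul_mem_iff_mem _ ((hr.map φ).map q)).1 ?_
      rw [eq_neg_of_add_eq_zero_right h2]
      refine neg_mem ?_
      rw [map_sum]
      exact Ideal.sum_mem _ fun i _ => by
        rw [map_mul]
        exact Ideal.mul_mem_left _ _ (Ideal.subset_span ⟨i, rfl⟩)

/-- Nakayama for a nilpotent ideal -/
theorem le_of_le_sup_mul {R : Type u} [CommRing R] {N Y S : Ideal R} (hN : IsNilpotent N) (h : Y ≤ S ⊔ N * Y) :
    Y ≤ S := by
  obtain ⟨n, hn⟩ := hN
  have key : ∀ m, Y ≤ S ⊔ N ^ m * Y := fun m => by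
    induction m with
    | zero => simp
    | succ m ih =>
      refine ih.trans (sup_le le_sup_left ((Ideal.mul_mono_right h).trans ?_))
      rw [Ideal.mul_sup, ← mul_assoc, ← pow_succ]
      exact sup_le_sup_right (Ideal.mul_le.2 fun x _ y hy => S.mul_mem_left x hy) _
  refine (key n).trans (sup_le le_rfl ?_)
  rw [hn, Ideal.zero_eq_bot, Ideal.bot_mul]
  exact bot_le

end Groth.Agent.LCIDef67
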